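import Mathlib
import Groth.Agent.AdicBasics.Dimension
import Groth.Agent.FlatDepth.RegHom

/-!
A finite module is the limit of its base changes to complete Noetherian local flat algebras.
-/

set_option autoImplicit false
set_option linter.style.haveILetI false
set_option linter.unusedSectionVars false
set_option backward.isDefEq.respectTransparency false

universe u

open TensorProduct IsLocalRing

namespace Groth.Agent.CplLim

variable {A : Type u} [CommRing A] [IsNoetherianRing A]

/-- Completed local rings of `A`. -/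
abbrev C (p : Ideal A) [p.IsPrime] : Type u :=
  AdicCompletion (maximalIdeal (Localization.AtPrime p)) (Localization.AtPrime p)

theorem flat_C (p : Ideal A) [p.IsPrime] : Module.Flat A (C p) :=
  Module.Flat.trans A (Localization.AtPrime p) (C p)

theorem faithfullyFlat_completion (T : Type u) [CommRing T] [IsLocalRing T] [IsNoetherianRing T] :
    Module.FaithfullyFlat T (AdicCompletion (maximalIdeal T) T) := by
  haveI : IsLocalHom (algebraMap T (AdicCompletion (maximalIdeal T) T)) :=
    ((IsLocalRing.local_hom_TFAE _).out 0 2).2 (AdicCompletion.maximalIdeal_eq_map (R := T)).ge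
  exact Module.FaithfullyFlat.of_flat_of_isLocalHom

/-- Completed local rings map to complete local algebras. -/
theorem exists_hom (p : Ideal A) [p.IsPrime] (B : Type u) [CommRing B] [Algebra A B] [IsNoetherianRing B] [IsLocalRing B]
    (hB : IsAdicComplete (maximalIdeal B) B) (hp : (maximalIdeal B).comap (algebraMap A B) = p) :
    Nonempty (C p →ₐ[A] B) := by
  have hu : ∀ y : p.primeCompl, IsUnit (algebraMap A B y) := fun y => by
    by_contra h
    exact y.2 (hp ▸ (show (y : A) ∈ (maximalIdeal B).comap (algebraMap A B) from h))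
  let f : Localization.AtPrime p →+* B := IsLocalization.lift hu
  have hf : f.comp (algebraMap A (Localization.AtPrime p)) = algebraMap A B := IsLocalization.lift_comp hu
  haveI : IsLocalHom f := ⟨fun z hz => by
    obtain ⟨⟨a, s⟩, rfl⟩ := IsLocalization.mk'_surjective p.primeCompl z
    rw [IsLocalization.AtPrime.isUnit_mk'_iff _ p]
    intro ha
    have hmem : algebraMap A B a ∈ maximalIdeal B := hp.ge ha
    apply hmem
    have h1 : f (IsLocalization.mk' _ a s) * algebraMap A B s = algebraMap A B a := by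
      rw [← RingHom.congr_fun hf (s : A), RingHom.comp_apply, ← map_mul, IsLocalization.mk'_spec,
        ← RingHom.comp_apply, hf]
    exact h1 ▸ hz.mul (hu s)⟩
  obtain ⟨ψ, hψ⟩ := FlatDepth.exists_cpl_map f
  let e : B ≃+* AdicCompletion (maximalIdeal B) B :=
    RingEquiv.ofBijective (algebraMap B (AdicCompletion (maximalIdeal B) B)) (by
      haveI := hB
      exact AdicCompletion.of_bijective (maximalIdeal B) B)
  refine ⟨{ e.symm.toRingHom.comp ψ with commutes' := fun a => ?_ }⟩
  show e.symm (ψ (algebraMap A (C p) a)) = algebraMap A B a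
  rw [RingEquiv.symm_apply_eq, IsScalarTower.algebraMap_apply A (Localization.AtPrime p) (C p), ← RingHom.comp_apply,
    hψ, RingHom.comp_apply, ← RingHom.comp_apply f, hf]
  rfl

theorem tmul_one_eq_zero (P : Ideal A) (B : Type u) [CommRing B] [Algebra A B] (b : B) :
    b ⊗ₜ[A] (1 : A ⧸ P) = 0 ↔ b ∈ P.map (algebraMap A B) := by
  let e := Algebra.TensorProduct.quotIdealMapEquivTensorQuot B P
  have h : e (Ideal.Quotient.mk _ b) = b ⊗ₜ[A] (1 : A ⧸ P) :=
    Algebra.TensorProduct.quotIdealMapEquivTensorQuot_mk B P b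
  rw [← h, map_eq_zero_iff e e.injective, Ideal.Quotient.eq_zero_iff_mem]

theorem exists_rep_tmul (P : Ideal A) (B : Type u) [CommRing B] [Algebra A B] (z : B ⊗[A] (A ⧸ P)) :
    ∃ b : B, z = b ⊗ₜ[A] (1 : A ⧸ P) := by
  induction z using TensorProduct.induction_on with
  | zero => exact ⟨0, (TensorProduct.zero_tmul _ _).symm⟩
  | tmul b q =>
    obtain ⟨a, rfl⟩ := Ideal.Quotient.mk_surjective q
    exact ⟨a • b, by
      rw [TensorProduct.smul_tmul]
      congr 1
      rw [Algebra.smul_def, mul_one]
      rfl⟩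
  | add y z hy hz =>
    obtain ⟨b, rfl⟩ := hy
    obtain ⟨c, rfl⟩ := hz
    exact ⟨b + c, (TensorProduct.add_tmul _ _ _).symm⟩

/-- Elements outside `P` stay regular modulo `P B` for flat `B`. -/
theorem mem_of_mul_mem (P : Ideal A) [P.IsPrime] (B : Type u) [CommRing B] [Algebra A B] [Module.Flat A B] {t : A}
    (ht : t ∉ P) {b : B} (h : algebraMap A B t * b ∈ P.map (algebraMap A B)) : b ∈ P.map (algebraMap A B) := by
  rw [← tmul_one_eq_zero] at h ⊢
  have hinj : Function.Injective (LinearMap.lsmul A (A ⧸ P) t) := fun q q' hqq' => by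
    have hne : Ideal.Quotient.mk P t ≠ 0 := fun h0 => ht (Ideal.Quotient.eq_zero_iff_mem.1 h0)
    refine mul_left_cancel₀ hne ?_
    simpa [Algebra.smul_def] using hqq'
  refine Module.Flat.lTensor_preserves_injective_linearMap (M := B) _ hinj ?_
  rw [map_zero, LinearMap.lTensor_tmul, LinearMap.lsmul_apply, ← TensorProduct.smul_tmul, Algebra.smul_def]
  exact h

/-- Families of elements of base changes to complete Noetherian local flat algebras. -/
def Fam (A : Type u) [CommRing A] (M : Type u) [AddCommGroup M] [Module A M] : Type (u + 1) :=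
  ∀ (B : Type u) [CommRing B] [Algebra A B] [IsNoetherianRing B] [IsLocalRing B],
    IsAdicComplete (maximalIdeal B) B → Module.Flat A B → B ⊗[A] M

/-- Compatible families. -/
def Compat {M : Type u} [AddCommGroup M] [Module A M] (x : Fam A M) : Prop :=
  ∀ (B : Type u) [CommRing B] [Algebra A B] [IsNoetherianRing B] [IsLocalRing B]
    (hB : IsAdicComplete (maximalIdeal B) B) (hBf : Module.Flat A B) (B' : Type u) [CommRing B'] [Algebra A B']
    [IsNoetherianRing B'] [IsLocalRing B'] (hB' : IsAdicComplete (maximalIdeal B') B') (hB'f : Module.Flat A B')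
    (g : B →ₐ[A] B'), LinearMap.rTensor M g.toLinearMap (x B hB hBf) = x B' hB' hB'f

/-- `M` surjects onto compatible families. -/
def Surj (A : Type u) [CommRing A] [IsNoetherianRing A] (M : Type u) [AddCommGroup M] [Module A M] : Prop :=
  ∀ x : Fam A M, Compat x → ∃ m : M, ∀ (B : Type u) [CommRing B] [Algebra A B] [IsNoetherianRing B] [IsLocalRing B]
    (hB : IsAdicComplete (maximalIdeal B) B) (hBf : Module.Flat A B), x B hB hBf = (1 : B) ⊗ₜ[A] m

theorem isAdicComplete_completion (T : Type u) [CommRing T] [IsLocalRing T] [IsNoetherianRing T] :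
    IsAdicComplete (maximalIdeal (AdicCompletion (maximalIdeal T) T)) (AdicCompletion (maximalIdeal T) T) :=
  inferInstance

theorem combine {R : Type u} [CommRing R] (σ α y c y₀ : R) :
    σ * y - α = σ * (y - c) - σ * (y₀ - c) + (σ * y₀ - α) := by ring

/-- The value at `P` propagates to completed local rings. -/
theorem mem_of_value (P : Ideal A) [P.IsPrime] (x : Fam A (A ⧸ P)) (s a : A) (p : PrimeSpectrum A)
    (bp : C p.asIdeal) (b₀ : C P)
    (h₀ : algebraMap A (C P) s * b₀ - algebraMap A (C P) a ∈ P.map (algebraMap A (C P)))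
    (hp : ∀ (B : Type u) [CommRing B] [Algebra A B] [IsNoetherianRing B] [IsLocalRing B]
      (hB : IsAdicComplete (maximalIdeal B) B) (hBf : Module.Flat A B) (g : C p.asIdeal →ₐ[A] B) (c : B),
      x B hB hBf = c ⊗ₜ[A] (1 : A ⧸ P) → g bp - c ∈ P.map (algebraMap A B))
    (hP : ∀ (B : Type u) [CommRing B] [Algebra A B] [IsNoetherianRing B] [IsLocalRing B]
      (hB : IsAdicComplete (maximalIdeal B) B) (hBf : Module.Flat A B) (g : C P →ₐ[A] B) (c : B),
      x B hB hBf = c ⊗ₜ[A] (1 : A ⧸ P) → g b₀ - c ∈ P.map (algebraMap A B)) :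
    algebraMap A (C p.asIdeal) s * bp - algebraMap A (C p.asIdeal) a ∈ P.map (algebraMap A (C p.asIdeal)) := by
  let R := C p.asIdeal
  haveI : Module.Flat A R := flat_C p.asIdeal
  let J := P.map (algebraMap A R)
  let z := algebraMap A R s * bp - algebraMap A R a
  by_contra hz
  have hz' : (Ideal.Quotient.mk J z : R ⧸ J) ≠ 0 := fun h0 => hz (Ideal.Quotient.eq_zero_iff_mem.1 h0)
  obtain ⟨Q, hQ, hzQ⟩ := exists_le_isAssociatedPrime_of_isNoetherianRing R (Ideal.Quotient.mk J z) hz'
  haveI := hQ.isPrime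
  have hzQ' : ∀ v : R, v * z ∈ J → v ∈ Q := fun v hv => hzQ (by
    rw [Submodule.mem_colon_singleton, Submodule.mem_bot, Algebra.smul_def, Ideal.Quotient.algebraMap_eq,
      ← map_mul, Ideal.Quotient.eq_zero_iff_mem]
    exact hv)
  have hQP : Q.comap (algebraMap A R) = P := by
    refine le_antisymm (fun r hr => ?_) (Ideal.map_le_iff_le_comap.1 fun j hj => hzQ' j (J.mul_mem_right _ hj))
    by_contra hrP
    have hzd : algebraMap A R r ∈ ⋃ q ∈ associatedPrimes R (R ⧸ J), (q : Set R) := Set.mem_biUnion hQ hr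
    rw [biUnion_associatedPrimes_eq_zero_divisors] at hzd
    obtain ⟨w, hw, hw'⟩ := hzd
    obtain ⟨w, rfl⟩ := Ideal.Quotient.mk_surjective w
    rw [Algebra.smul_def, Ideal.Quotient.algebraMap_eq, ← map_mul, Ideal.Quotient.eq_zero_iff_mem] at hw'
    exact hw (Ideal.Quotient.eq_zero_iff_mem.2 (mem_of_mul_mem P R hrP hw'))
  let T := Localization.AtPrime Q
  let B' := AdicCompletion (maximalIdeal T) T
  haveI : Module.Flat A T := Module.Flat.trans A R T
  haveI : Module.Flat A B' := Module.Flat.trans A T B'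
  haveI := faithfullyFlat_completion T
  have hcomap : (maximalIdeal B').comap (algebraMap A B') = P := by
    haveI : IsLocalHom (algebraMap T B') :=
      ((IsLocalRing.local_hom_TFAE _).out 0 2).2 (AdicCompletion.maximalIdeal_eq_map (R := T)).ge
    have h1 : (maximalIdeal B').comap (algebraMap T B') = maximalIdeal T := IsLocalRing.maximalIdeal_comap _
    have h2 : (maximalIdeal T).comap (algebraMap R T) = Q := IsLocalization.AtPrime.comap_maximalIdeal _ Q
    rw [IsScalarTower.algebraMap_eq A T B', ← Ideal.comap_comap, h1, IsScalarTower.algebraMap_eq A R T,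
      ← Ideal.comap_comap, h2, hQP]
  obtain ⟨g₀⟩ := exists_hom P B' (isAdicComplete_completion T) hcomap
  let g : R →ₐ[A] B' := (IsScalarTower.toAlgHom A T B').comp (IsScalarTower.toAlgHom A R T)
  obtain ⟨c, hc⟩ := exists_rep_tmul P B' (x B' (isAdicComplete_completion T) inferInstance)
  have e₁ := hp B' _ _ g c hc
  have e₀ := hP B' _ _ g₀ c hc
  have e₂ : g₀ (algebraMap A (C P) s * b₀ - algebraMap A (C P) a) ∈ P.map (algebraMap A B') := by
    have h := Ideal.mem_map_of_mem (g₀ : C P →+* B') h₀
    rw [Ideal.map_map, AlgHom.comp_algebraMap] at h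
    exact h
  have hz2 : g z ∈ P.map (algebraMap A B') := by
    have heq : g z = algebraMap A B' s * (g bp - c) - algebraMap A B' s * (g₀ (b₀) - c) +
        g₀ (algebraMap A (C P) s * b₀ - algebraMap A (C P) a) := by
      rw [show g z = algebraMap A B' s * g bp - algebraMap A B' a by
        rw [map_sub, map_mul, AlgHom.commutes, AlgHom.commutes], map_sub g₀, map_mul g₀, AlgHom.commutes,
        AlgHom.commutes]
      exact combine _ _ _ _ _
    rw [heq]
    exact add_mem (sub_mem (Ideal.mul_mem_left _ _ e₁) (Ideal.mul_mem_left _ _ e₀)) e₂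
  have hzT : algebraMap R T z ∈ J.map (algebraMap R T) := by
    rw [← Ideal.comap_map_eq_self_of_faithfullyFlat (B := B') (J.map (algebraMap R T)), Ideal.mem_comap,
      Ideal.map_map, ← IsScalarTower.algebraMap_eq R T B', Ideal.map_map, ← IsScalarTower.algebraMap_eq A R B']
    exact hz2
  obtain ⟨v, hv, hvz⟩ := (IsLocalization.algebraMap_mem_map_algebraMap_iff Q.primeCompl T J z).1 hzT
  exact hv (hzQ' v hvz)

/-- Membership is local, tested in completed local rings. -/
theorem mem_sup_of_forall (P : Ideal A) (s a : A)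
    (key : ∀ p : PrimeSpectrum A, ∃ bp : C p.asIdeal,
      algebraMap A (C p.asIdeal) s * bp - algebraMap A (C p.asIdeal) a ∈ P.map (algebraMap A (C p.asIdeal))) :
    a ∈ Ideal.span {s} ⊔ P := by
  by_contra hne
  let I := Ideal.span {s} ⊔ P
  let 𝔞 : Ideal A := Submodule.comap (LinearMap.mulRight A a) I
  have h𝔞 : 𝔞 ≠ ⊤ := fun htop => hne (by
    have h1 : (1 : A) ∈ 𝔞 := htop ▸ Submodule.mem_top
    simpa [𝔞] using h1)
  obtain ⟨q, hq, hle⟩ := Ideal.exists_le_maximal 𝔞 h𝔞
  let T := Localization.AtPrime q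
  haveI := faithfullyFlat_completion T
  obtain ⟨bq, hk⟩ := key ⟨q, hq.isPrime⟩
  have haC : algebraMap A (C q) a ∈ I.map (algebraMap A (C q)) := by
    have h1 : algebraMap A (C q) s * bq ∈ I.map (algebraMap A (C q)) :=
      Ideal.mul_mem_right _ _ (Ideal.mem_map_of_mem _ (Ideal.mem_sup_left (Ideal.mem_span_singleton_self s)))
    have h2 := sub_mem h1 (Ideal.map_mono (f := algebraMap A (C q)) (le_sup_right : P ≤ I) hk)
    simpa using h2
  have haT : algebraMap A T a ∈ I.map (algebraMap A T) := by
    rw [← Ideal.comap_map_eq_self_of_faithfullyFlat (B := C q) (I.map (algebraMap A T)), Ideal.mem_comap,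
      Ideal.map_map, ← IsScalarTower.algebraMap_eq A T (C q), ← IsScalarTower.algebraMap_apply A T (C q)]
    exact haC
  obtain ⟨v, hv, hva⟩ := (IsLocalization.algebraMap_mem_map_algebraMap_iff q.primeCompl T I a).1 haT
  exact hv (hle (show v ∈ 𝔞 by simpa [𝔞, Submodule.mem_comap] using hva))

theorem surj_quotient (P : Ideal A) [P.IsPrime] : Surj A (A ⧸ P) := by
  classical
  intro x hx
  choose b hb using fun (p : PrimeSpectrum A) =>
    exists_rep_tmul P (C p.asIdeal) (x (C p.asIdeal) (isAdicComplete_completion _) (flat_C p.asIdeal))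
  let p₀ : PrimeSpectrum A := ⟨P, inferInstance⟩
  have hmap : ∀ (p : PrimeSpectrum A) (B : Type u) [CommRing B] [Algebra A B] [IsNoetherianRing B] [IsLocalRing B]
      (hB : IsAdicComplete (maximalIdeal B) B) (hBf : Module.Flat A B) (g : C p.asIdeal →ₐ[A] B) (c : B),
      x B hB hBf = c ⊗ₜ[A] (1 : A ⧸ P) → g (b p) - c ∈ P.map (algebraMap A B) := by
    intro p B _ _ _ _ hB hBf g c hc
    have h := hx (C p.asIdeal) (isAdicComplete_completion _) (flat_C p.asIdeal) B hB hBf g
    rw [hb p, hc, LinearMap.rTensor_tmul] at h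
    rw [← tmul_one_eq_zero, TensorProduct.sub_tmul, sub_eq_zero]
    exact h
  -- the value at `P`
  have hC₀ : maximalIdeal (C P) = P.map (algebraMap A (C P)) := by
    refine (AdicCompletion.maximalIdeal_eq_map (R := Localization.AtPrime P)).trans ?_
    refine (congrArg (Ideal.map _) (Localization.AtPrime.map_eq_maximalIdeal).symm).trans ?_
    rw [Ideal.map_map]
    rfl
  obtain ⟨t, ht⟩ := Cohen.exists_sub_mem_pow (A := Localization.AtPrime P) (b p₀) 1
  rw [pow_one, hC₀] at ht
  obtain ⟨⟨a, s, hs⟩, rfl⟩ := IsLocalization.mk'_surjective P.primeCompl t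
  have h₀ : algebraMap A (C P) s * b p₀ - algebraMap A (C P) a ∈ P.map (algebraMap A (C P)) := by
    have := Ideal.mul_mem_left _ (algebraMap A (C P) s) ht
    rw [mul_sub] at this
    convert this using 2
    rw [IsScalarTower.algebraMap_apply A (Localization.AtPrime P) (C P) s,
      IsScalarTower.algebraMap_apply A (Localization.AtPrime P) (C P) a, ← map_mul]
    congr 1
    exact (IsLocalization.mk'_spec' _ a ⟨s, hs⟩).symm
  have key : ∀ p : PrimeSpectrum A, algebraMap A (C p.asIdeal) s * b p - algebraMap A (C p.asIdeal) a ∈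
      P.map (algebraMap A (C p.asIdeal)) := fun p => mem_of_value P x s a p (b p) (b p₀) h₀ (hmap p) (hmap p₀)
  have ha : a ∈ Ideal.span {s} ⊔ P := mem_sup_of_forall P s a fun p => ⟨b p, key p⟩
  obtain ⟨y, hy, w, hw, hyw⟩ := Submodule.mem_sup.1 ha
  obtain ⟨c, rfl⟩ := Ideal.mem_span_singleton'.1 hy
  refine ⟨Ideal.Quotient.mk P c, fun B _ _ _ _ hB hBf => ?_⟩
  let p : PrimeSpectrum A := ⟨(maximalIdeal B).comap (algebraMap A B), inferInstance⟩
  haveI : Module.Flat A (C p.asIdeal) := flat_C p.asIdeal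
  obtain ⟨g⟩ := exists_hom p.asIdeal B hB rfl
  obtain ⟨d, hd⟩ := exists_rep_tmul P B (x B hB hBf)
  have h1 : b p - algebraMap A (C p.asIdeal) c ∈ P.map (algebraMap A (C p.asIdeal)) := by
    refine mem_of_mul_mem P (C p.asIdeal) hs ?_
    have h2 := add_mem (key p) (Ideal.mem_map_of_mem (algebraMap A (C p.asIdeal)) hw)
    convert h2 using 1
    rw [← hyw, map_add, map_mul]
    ring
  have h3 : g (b p) - algebraMap A B c ∈ P.map (algebraMap A B) := by
    have h := Ideal.mem_map_of_mem (g : C p.asIdeal →+* B) h1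
    rw [Ideal.map_map, AlgHom.comp_algebraMap] at h
    simpa using h
  have h4 : d - algebraMap A B c ∈ P.map (algebraMap A B) := by
    have := sub_mem h3 (hmap p B hB hBf g d hd)
    simpa using this
  rw [hd, show Ideal.Quotient.mk P c = c • (1 : A ⧸ P) by rw [Algebra.smul_def, mul_one]; rfl,
    ← TensorProduct.smul_tmul, ← sub_eq_zero, ← TensorProduct.sub_tmul, tmul_one_eq_zero, Algebra.smul_def, mul_one]
  exact h4

theorem surj_equiv {M N : Type u} [AddCommGroup M] [Module A M] [AddCommGroup N] [Module A N] (e : M ≃ₗ[A] N)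
    (h : Surj A N) : Surj A M := by
  intro x hx
  obtain ⟨n, hn⟩ := h (fun B _ _ _ _ hB hBf => e.toLinearMap.lTensor B (x B hB hBf)) (by
    intro B _ _ _ _ hB hBf B' _ _ _ _ hB' hB'f g
    show LinearMap.rTensor N g.toLinearMap (e.toLinearMap.lTensor B (x B hB hBf)) = e.toLinearMap.lTensor B' (x B' hB' hB'f)
    rw [← hx B hB hBf B' hB' hB'f g, ← LinearMap.comp_apply, ← LinearMap.comp_apply,
      LinearMap.rTensor_comp_lTensor, LinearMap.lTensor_comp_rTensor])
  refine ⟨e.symm n, fun B _ _ _ _ hB hBf => ?_⟩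
  have h1 := congrArg (e.symm.toLinearMap.lTensor B) (hn B hB hBf)
  rw [← LinearMap.comp_apply, ← LinearMap.lTensor_comp, LinearMap.lTensor_tmul] at h1
  simpa using h1

theorem surj_finite (M : Type u) [AddCommGroup M] [Module A M] [Module.Finite A M] : Surj A M := by
  induction ‹Module.Finite A M› using IsNoetherianRing.induction_on_isQuotientEquivQuotientPrime with
  | subsingleton N => exact fun x _ => ⟨0, fun B _ _ _ _ hB hBf => Subsingleton.elim _ _⟩
  | quotient N p f =>
    haveI := p.2
    exact surj_equiv f (surj_quotient p.1)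
  | exact N₁ N₂ N₃ f g hf hg hfg h₁ h₃ =>
    intro x hx
    obtain ⟨n₃, hn₃⟩ := h₃ (fun B _ _ _ _ hB hBf => g.lTensor B (x B hB hBf)) (by
      intro B _ _ _ _ hB hBf B' _ _ _ _ hB' hB'f φ
      show LinearMap.rTensor N₃ φ.toLinearMap (g.lTensor B (x B hB hBf)) = g.lTensor B' (x B' hB' hB'f)
      rw [← hx B hB hBf B' hB' hB'f φ, ← LinearMap.comp_apply, ← LinearMap.comp_apply,
        LinearMap.rTensor_comp_lTensor, LinearMap.lTensor_comp_rTensor])
    obtain ⟨n₂, rfl⟩ := hg n₃
    have hex : ∀ (B : Type u) [CommRing B] [Algebra A B] [IsNoetherianRing B] [IsLocalRing B]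
        (hB : IsAdicComplete (maximalIdeal B) B) (hBf : Module.Flat A B),
        ∃ w : B ⊗[A] N₁, f.lTensor B w = x B hB hBf - (1 : B) ⊗ₜ[A] n₂ := fun B _ _ _ _ hB hBf => by
      haveI := hBf
      refine ((lTensor_exact B hfg hg) _).1 ?_
      rw [map_sub, hn₃ B hB hBf, LinearMap.lTensor_tmul, sub_self]
    obtain ⟨n₁, hn₁⟩ := h₁ (fun B _ _ _ _ hB hBf => (hex B hB hBf).choose) (by
      intro B _ _ _ _ hB hBf B' _ _ _ _ hB' hB'f φ
      haveI := hB'f
      refine Module.Flat.lTensor_preserves_injective_linearMap f hf ?_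
      show f.lTensor B' (LinearMap.rTensor N₁ φ.toLinearMap (hex B hB hBf).choose) = f.lTensor B' (hex B' hB' hB'f).choose
      rw [(hex B' hB' hB'f).choose_spec, ← LinearMap.comp_apply, LinearMap.lTensor_comp_rTensor,
        ← LinearMap.rTensor_comp_lTensor, LinearMap.comp_apply, (hex B hB hBf).choose_spec, map_sub,
        hx B hB hBf B' hB' hB'f φ, LinearMap.rTensor_tmul]
      simp)
    refine ⟨n₂ + f n₁, fun B _ _ _ _ hB hBf => ?_⟩
    have h1 := (hex B hB hBf).choose_spec
    rw [hn₁ B hB hBf, LinearMap.lTensor_tmul] at h1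
    rw [TensorProduct.tmul_add, h1, add_sub_cancel]

/-- Elements are detected by completed local rings. -/
theorem eq_of_forall (M : Type u) [AddCommGroup M] [Module A M] (m m' : M)
    (h : ∀ (p : Ideal A) [p.IsMaximal], (1 : C p) ⊗ₜ[A] m = (1 : C p) ⊗ₜ[A] m') : m = m' := by
  refine Module.eq_of_localization_maximal (fun (p : Ideal A) (_ : p.IsMaximal) => LocalizedModule p.primeCompl M)
    (fun (p : Ideal A) (_ : p.IsMaximal) => LocalizedModule.mkLinearMap p.primeCompl M) m m' fun p hp => ?_
  let T := Localization.AtPrime p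
  haveI := faithfullyFlat_completion T
  have h1 : (1 : C p) ⊗ₜ[T] ((1 : T) ⊗ₜ[A] m) = (1 : C p) ⊗ₜ[T] ((1 : T) ⊗ₜ[A] m') := by
    refine (TensorProduct.AlgebraTensorModule.cancelBaseChange A T T (C p) M).injective ?_
    simpa using h p
  have h2 : (1 : T) ⊗ₜ[A] m = (1 : T) ⊗ₜ[A] m' :=
    Module.FaithfullyFlat.tensorProduct_mk_injective (A := T) (B := C p) (T ⊗[A] M) h1
  simpa using congrArg (IsLocalizedModule.isBaseChange p.primeCompl T
    (LocalizedModule.mkLinearMap p.primeCompl M)).equiv h2

end Groth.Agent.CplLim
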